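import Cfsg.Agent.PS.Fus

/-! The second class of involutions, generation and the order. -/

set_option autoImplicit false
set_option linter.unusedVariables false
set_option linter.unusedSectionVars false

namespace PS

open Cfsg Subgroup FT H4 H5 GW MT

variable {G : Type*} [Group G] [Finite G] {j : H0 →* G} {w : G}

theorem refl_cj {x y i : G} (hx : x * x = 1) (hy : y * y = 1) (hi : i ∈ zpowers (y * x)) :
    IsConj x (y * i) ∨ IsConj y (y * i) := by
  obtain ⟨n, rfl⟩ := mem_powers_iff_mem_zpowers.2 hi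
  have e : ∀ k : ℕ, ∀ z : G, z * z = 1 → z * (y * x) * z * (y * x) = 1 →
      ((y * x) ^ k)⁻¹ * z * ((y * x) ^ k)⁻¹⁻¹ = z * (y * x) ^ (2 * k) := fun k z h1 h2 => by
    have : SemiconjBy z (y * x) (y * x)⁻¹ := by
      rw [SemiconjBy, eq_inv_mul_iff_mul_eq, ← mul_right_inj z, h1, ← h2]; group
    rw [← inv_pow, ← (this.pow_right k).eq, inv_pow, inv_inv, mul_assoc, ← pow_add, two_mul]
  obtain ⟨k, rfl | rfl⟩ := Nat.even_or_odd' n
  · exact .inr (isConj_iff.2 ⟨_, e k y hy (by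
      rw [← mul_assoc, ← mul_assoc, hy, one_mul, mul_assoc x, hy, mul_one, hx])⟩)
  · refine .inl (isConj_iff.2 ⟨_, (e k x hx (by
      rw [← mul_assoc x, mul_assoc _ x x, hx, mul_one, ← mul_assoc, mul_assoc x, hy, mul_one,
        hx])).trans ?_⟩)
    change _ = y * (y * x) ^ (2 * k + 1)
    rw [pow_succ', ← mul_assoc, ← mul_assoc, hy, one_mul]

theorem dih {L : Subgroup G} {x y : G} (ox : orderOf x = 2) (oy : orderOf y = 2) (hx : x ∈ L)
    (hy : y ∈ L) (hn : ¬ Cj L x y) : ∃ i, orderOf i = 2 ∧ i ∈ zpowers (y * x) ∧ i ∈ L ∧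
      x ∈ Cen1 i ∧ y ∈ Cen1 i := by
  have hl := zpowers_le.2 (mul_mem hy hx)
  obtain ⟨i, oi, hi⟩ := H9.exists_inv_mem_zpowers (g := y * x) (even_iff_two_dvd.1
    (Nat.not_odd_iff_even.1 fun o => by
      obtain ⟨g, hg, e⟩ := conj_of_odd ox oy o
      exact hn ⟨g, hl hg, e⟩))
  have := H8.comm_of_mem_zpowers_mul (ii oy) (ii ox) (ii oi) hi
  exact ⟨i, oi, hi, hl hi, c1.2 this.2, c1.2 this.1⟩

theorem cjH {L : Subgroup G} (hL : j.range ≤ L) {d a b : H0} (e : d * a = b * d) :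
    Cj L (j a) (j b) :=
  ⟨j d, hL ⟨d, rfl⟩, by rw [← map_mul, e, map_mul, mul_inv_cancel_right]⟩

/-- an element inducing the extra automorphism -/
structure JW (j : H0 →* G) (w : G) : Prop extends JH j where
  act : Act j w phi

namespace JW

variable (h : JW j w)
include h

theorem cls {x : H0} (h1 : x * x = 1) (h2 : x ≠ 1) :
    (isA x = true ∧ Cj (j.range ⊔ zpowers w) (j t0) (j x)) ∨
      (isA x = false ∧ Cj (j.range ⊔ zpowers w) (j j0) (j x)) := by
  have hw : w ∈ j.range ⊔ zpowers w := mem_sup_right (mem_zpowers w)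
  cases e : isA x
  · refine .inr ⟨rfl, ?_⟩
    rcases nisA_cl x h1 e with rfl | ⟨d, hd⟩ | ⟨d, hd⟩
    · exact absurd rfl h2
    · obtain ⟨a, ha⟩ : ∃ a, a * j0 = aE (vn 12) * a := by decide +kernel
      obtain ⟨b, hb⟩ : ∃ b, b * p0 = aE (vn 3) * b := by decide +kernel
      exact (cjH le_sup_left ha).trans ((Cj.symm ⟨w, hw, h.act.all (vn 3)⟩).trans
        ((cjH le_sup_left hb).symm.trans (cjH le_sup_left hd)))
    · exact cjH le_sup_left hd
  · refine .inl ⟨rfl, ?_⟩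
    rcases (isA_cl x e).2.2 with rfl | ⟨d, hd⟩
    · exact Cj.refl _ _
    · exact Cj.trans ⟨w, hw, h.act.a⟩ (cjH le_sup_left hd)

theorem tj : ¬ IsConj (j t0) (j j0) := fun e => by
  rcases h.cls (x := p0) (by decide) (by decide) with ⟨e1, -⟩ | ⟨-, e1⟩
  exacts [absurd e1 (by decide), h.tp (e.trans e1.isConj)]

theorem of_isA {x : H0} (e : isA x = true) : IsConj (j t0) (j x) := by
  rcases h.cls (isA_cl x e).1 (isA_cl x e).2.1 with ⟨-, e1⟩ | ⟨e1, -⟩
  exacts [e1.isConj, absurd (e.symm.trans e1) (by decide)]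

theorem o2A {x : G} (e : IsConj (j t0) x) : orderOf x = 2 := by
  obtain ⟨g, rfl⟩ := isConj_iff.1 e; exact iconj h.ot g

theorem to_isA {x : H0} (e : IsConj (j t0) (j x)) : isA x = true := by
  have o := h.o2A e
  rcases h.cls (x := x) (h.inj (by rw [map_mul, ii o, map_one]))
    (fun c => ine o (by rw [c, map_one])) with ⟨e1, -⟩ | ⟨-, e1⟩
  exacts [e1, absurd (e.trans e1.isConj.symm) h.tj]

theorem cenA {x a b : G} (hx : IsConj (j t0) x) (ha : a ∈ A1.map j) (ha' : IsConj (j t0) a)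
    (hb : b ∈ A1.map j) (hb' : ¬ IsConj (j t0) b) (b1 : b ≠ 1) (xa : x ∈ Cen1 a)
    (xb : x ∈ Cen1 b) : x ∈ A1.map j := by
  obtain ⟨g, hg, e⟩ := h.ctl ha (mem_map_of_mem j (by decide : inA t0 = true)) ha'.symm
  obtain ⟨y, hy⟩ := h.cen.ge (show g * x * g⁻¹ ∈ Cen1 (j t0) by
    rw [← e, ← conj_c1]; exact conj_mem_conjS xa)
  obtain ⟨c, hc, e1⟩ := cmem hg hb
  obtain ⟨v, rfl⟩ := inA_iff c hc
  have := cenA0 y (h.to_isA (hy ▸ hx.trans (isConj_mk g x))) v (by
    rw [← Bool.not_eq_true]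
    exact fun c => hb' ((h.of_isA c).trans (e1 ▸ (isConj_mk g b).symm)))
    (fun c => b1 (by rw [← conj_eq_one_iff (a := g), ← e1, c]; exact map_one j))
    (h.inj (by rw [map_mul, map_mul, hy, e1, conj_mul, conj_mul, c1.1 xb]))
  exact mem_of_eq (cmem' hg (hy ▸ mem_map_of_mem j (show y ∈ A1 from this))) (by group)

theorem cenA' {x a : G} (hx : IsConj (j t0) x) (ha : a ∈ A1.map j) (ha' : IsConj (j t0) a)
    (xa : x ∈ Cen1 a) (xb : x ∈ Cen1 (j j0)) : x ∈ A1.map j :=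
  h.cenA hx ha ha' (mem_map_of_mem j (by decide : inA j0 = true)) h.tj
    (ine (h.o2' (by decide) (by decide))) xa xb

theorem two {x : G} (hx : IsConj (j t0) x) (xu : x ∈ Cen1 (j j0))
    (hu : IsConj (j t0) (x * j j0)) : x = j t0 ∨ x = j b0 := by
  have k : ∀ v, isA (aE v) = true → isA (aE v * j0) = false → ∃ n, x ∈ Cen1 (j (aE n)) ∧
      isA (aE v * aE n) = true ∧ aE n ≠ 1 := fun v h1 h2 => by
    have hy := h.of_isA h1
    have yA : j (aE v) ∈ A1.map j := mem_map_of_mem j (inA_aE v)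
    have yu := h.Ac (mem_map_of_mem j (by decide : inA j0 = true)) yA
    obtain ⟨i, oi, hi, iu, xi, yi⟩ := dih (h.o2A hx) (h.o2A hy) xu yu (by
      rintro ⟨g, hg, e⟩
      have := hu.trans (isConj_mk g _)
      rw [← conj_mul, e, c1'.1 hg, ← map_mul] at this
      exact absurd ((h.to_isA this).symm.trans h2) (by decide))
    have h3 : IsConj (j t0) (j (aE v) * i) :=
      (refl_cj (ii (h.o2A hx)) (ii (h.o2A hy)) hi).elim hx.trans hy.trans
    obtain ⟨c, hc, rfl⟩ := (mul_mem_cancel_left yA).1 (h.cenA' h3 yA hy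
      (mul_mem (c1.2 rfl) (c1s.1 yi)) (mul_mem yu iu))
    obtain ⟨n, rfl⟩ := inA_iff c hc
    exact ⟨n, xi, h.to_isA (by rwa [map_mul]), fun c => ine oi (by rw [c, map_one])⟩
  obtain ⟨u, u1, u2, u3⟩ := k (vn 11) (by decide) (by decide)
  obtain ⟨v, v1, v2, v3⟩ := k (vn 13) (by decide) (by decide)
  obtain ⟨n, n1, n2⟩ := prodA u v u2 v2 u3 v3
  rw [c1s] at u1 v1
  obtain ⟨c, hc, rfl⟩ := h.cenA' hx (mem_map_of_mem j (inA_aE n)) (h.of_isA n1) (c1s.1 (by
    rcases n2 with e | e | e | e <;> simp only [e, map_mul]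
    exacts [mul_mem u1 (c1s.1 xu), mul_mem v1 (c1s.1 xu), mul_mem u1 v1,
      mul_mem (mul_mem u1 v1) (c1s.1 xu)])) xu
  obtain ⟨a, rfl⟩ := inA_iff c hc
  exact (twoA a (h.to_isA hx) (h.to_isA (by rwa [map_mul]))).imp (congrArg j) (congrArg j)

theorem twoM {m : G} (hm : m ∈ Cen1 (j j0)) : m * j t0 * m⁻¹ = j t0 ∨ m * j t0 * m⁻¹ = j b0 := by
  refine h.two (isConj_mk m _) (mul_mem (mul_mem hm (c1.2 (by
    rw [← map_mul, ← map_mul, t0_comm]))) (inv_mem hm)) ?_
  rw [← c1'.1 hm, conj_mul, ← map_mul]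
  exact (h.of_isA (by decide)).trans (isConj_mk m _)

theorem mA {x : G} (hx : IsConj (j t0) x) (xu : x ∈ Cen1 (j j0)) : x ∈ A1.map j := by
  rcases h.twoM xu with e | e
  · exact h.cenA' hx (mem_map_of_mem j (by decide : inA t0 = true)) (IsConj.refl _) (c1'.2 e) xu
  · rcases h.two hx xu (by
      rw [show j0 = b0 * t0 by decide, map_mul, ← e, ← mul_assoc, ← mul_assoc, ← mul_assoc,
        ii (h.o2A hx), one_mul, iinv (h.o2A hx)]
      exact hx.trans (isConj_iff.2 ⟨j t0, by rw [iinv h.ot]⟩)) with rfl | rfl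
    exacts [mem_map_of_mem j (by decide : inA t0 = true),
      mem_map_of_mem j (by decide : inA b0 = true)]

theorem gen : j.range ⊔ zpowers w = ⊤ := by
  have hS : S1.map j ≤ j.range ⊔ zpowers w := (map_le_range j _).trans le_sup_left
  refine two_cl h.ot (h.o2' (x := j0) (by decide) (by decide)) (mem_sup_left ⟨_, rfl⟩) h.tj
    (fun a ha oa => ?_) (h.cen.ge.trans le_sup_left) fun m hm => ?_
  · obtain ⟨g, hg, x, -, e⟩ := conj_in2 (h.syl.of_le hS le_top) ha (ii oa)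
    have o : orderOf (j x) = 2 := e ▸ iconj oa g
    have c : Cj _ (j x) a := (e ▸ cj_mk hg a).symm
    exact (h.cls (x := x) (h.inj (by rw [map_mul, ii o, map_one]))
      fun c => ine o (by rw [c, map_one])).imp (·.2.trans c) (·.2.trans c)
  · rcases h.twoM hm with e | e
    · exact mem_sup_left (h.mem e)
    · have := h.mem (g := w⁻¹ * m) (by
        rw [show w⁻¹ * m * j t0 * (w⁻¹ * m)⁻¹ = w⁻¹ * (m * j t0 * m⁻¹) * w by group, e,
          show j b0 = _ from h.act.a.symm]; group)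
      exact mem_of_eq (mul_mem (mem_sup_right (mem_zpowers w)) (mem_sup_left this)) (by group)

theorem triv {g : G} (e : Act j g (lm 1 2 4 8)) : ∃ v, j (aE v) = g := by
  obtain ⟨x, rfl⟩ := h.mem e.a
  obtain ⟨v, rfl⟩ := cenA1 x (e.to_H h.inj)
  exact ⟨v, rfl⟩

theorem fix {v : V4} (e : j (aE v) ∈ Cen1 w) : phi.ap v = v :=
  aE_inj _ _ (h.inj ((h.act.all v).symm.trans (c1'.1 (c1s.1 e))))

theorem adjust : ∃ w', JW j w' ∧ w' * w' = 1 ∧ w' * j r0 * w'⁻¹ = j r0⁻¹ := by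
  have h1 : Act j (w * (j r0 * w⁻¹)) (lm 1 6 2 8) :=
    h.act.mul ((Act.of_H act_r).mul h.act.phi_inv)
  obtain ⟨x, hx⟩ := h.mem h1.a
  obtain ⟨v, hv⟩ := adj1 x ((hx ▸ h1).to_H h.inj) (h.inj (by
    rw [map_mul, map_mul, hx, ← mul_assoc w, conj_mul, conj_mul, ← map_mul, ← map_mul,
      show r0 * r0 * r0 = 1 by decide]; simp))
  have h2 : JW j (j (aE v) * w) := ⟨h.toJH, (Act.of_H (act_aE v)).mul h.act⟩
  have h3 : j (aE v) * w * j r0 * (j (aE v) * w)⁻¹ = j r0⁻¹ := by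
    rw [← hv, map_mul, map_mul, hx, map_inv]; group
  generalize j (aE v) * w = w1 at h2 h3
  obtain ⟨u, hu⟩ := h.triv (h2.act.mul h2.act)
  rcases adj2 u (h2.fix (c1.2 (by rw [hu, mul_assoc]))) (h.inj (by
    rw [map_mul, map_mul, hu, ← c1, c1', show w1 * w1 * j r0 * (w1 * w1)⁻¹ =
      w1 * (w1 * j r0 * w1⁻¹) * w1⁻¹ by group, h3, map_inv, ← conj_inv, h3, map_inv, inv_inv]))
    with e | e
  · exact ⟨w1, h2, by rw [← hu, e, map_one], h3⟩
  · refine ⟨w1 * j t0, ⟨h.toJH, h2.act.mul (Act.of_H (act_aE (vn 1)))⟩, ?_, ?_⟩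
    · rw [show w1 * j t0 * (w1 * j t0) = w1 * j t0 * w1⁻¹ * (w1 * w1) * j t0 by group, h2.act.a,
        ← hu, e, ← map_mul, ← map_mul]
      exact (congrArg j (by decide)).trans (map_one j)
    · rw [← h3, mul_assoc w1, ← map_mul, ← t0_comm, map_mul]; group

section
variable (ww : w * w = 1) (wr : w * j r0 * w⁻¹ = j r0⁻¹)
include ww wr

theorem rw : Rw j w := by
  have i := inv_eq_of_mul_eq_one_right ww
  have k : ∀ {a b c : H0}, w * j a * w⁻¹ = j b → b * c = 1 → w * (j a * (w * j c)) = 1 :=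
    fun e e' => by rw [← map_one j, ← e', map_mul, ← e, i]; group
  exact ⟨ww, k wr (by decide), k h.act.a (by decide), k h.act.b (by decide)⟩

theorem ws : w * (j s0 * (w * (j s0 * (w * j s0)))) = 1 := by
  have h1 := h.act.mul (Act.of_H (j := j) act_s)
  obtain ⟨v, hv⟩ := h.triv (h1.mul (h1.mul h1))
  have ss : j s0 * j s0 = 1 := ii (h.o2' (by decide) (by decide))
  have vv : j (aE v) * j (aE v) = 1 := by rw [← map_mul, (A1_le _ (inA_aE v)).2, map_one]
  have := H8.comm_of_mem_zpowers_mul ww ss vv (hv ▸ mul_mem (mem_zpowers _)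
    (mul_mem (mem_zpowers _) (mem_zpowers _)))
  simp only [mul_assoc] at hv
  rcases adj3 v (h.fix (c1.2 this.1.symm)) (h.inj (by rw [map_mul, map_mul, this.2])) with e | e
  · rw [← hv, e, map_one]
  · have := (h.rw ww wr).bad (by rw [← map_mul j p0, ← e, ← vv, hv]; simp only [mul_assoc])
    exact absurd ((mem_map_iff_mem h.inj).1 this) (by decide : ¬ inC t0 = true)

theorem comm : j c0 * (w * j c0 * w⁻¹) = w * j c0 * w⁻¹ * j c0 := by
  have wn : ∀ {g}, g ∈ Cen1 (j r0) → w * g * w⁻¹ ∈ Cen1 (j r0) := fun hg => by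
    rw [c1s, ← inv_mem_iff, ← map_inv, ← wr, ← conj_c1]; exact conj_mem_conjS (c1s.1 hg)
  have hX := h.of_isA (x := c0) (by decide)
  have hY := hX.trans (isConj_mk w _)
  have xL : j c0 ∈ Cen1 (j r0) := c1.2 (by rw [← map_mul, ← map_mul]; exact congrArg j (by decide))
  obtain ⟨i, oi, hi, -, xi, yi⟩ := dih (h.o2A hX) (h.o2A hY) xL (wn xL) fun c => by
    obtain ⟨d, d1, d2⟩ := c0_cj
    have dL : j d ∈ Cen1 (j r0) := c1.2 (by rw [← map_mul, ← map_mul, d1])
    have e1 : j d * j b0 * (j d)⁻¹ = j c0 := by rw [← d2, map_mul, map_mul, map_inv]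
    obtain ⟨l, hl, e⟩ := (Cj.trans ⟨_, dL, e1⟩ c).trans (Cj.symm (a := j t0)
      ⟨_, wn dL, by rw [← e1, show j t0 = _ from h.act.d.symm]; group⟩)
    obtain ⟨x, hx⟩ := h.mem (g := l * w) (by
      rw [show l * w * j t0 * (l * w)⁻¹ = l * (w * j t0 * w⁻¹) * l⁻¹ by group, h.act.a]; exact e)
    refine no_inv x (h.inj ?_)
    rw [map_mul, map_mul, map_inv, hx, show l * w * j r0 * (l * w)⁻¹ = l * (w * j r0 * w⁻¹) * l⁻¹
      by group, wr, map_inv, ← conj_inv, c1'.1 hl]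
  generalize w * j c0 * w⁻¹ = Y at *
  generalize j c0 = X at *
  obtain ⟨g, -, z, -, e⟩ := conj_in2 h.syl (mem_top i) (ii oi)
  have o : orderOf (j z) = 2 := e ▸ iconj oi g
  have k : ∀ {u : G}, IsConj u (j z) → ∃ g, g * X * g⁻¹ ∈ Cen1 u ∧ g * Y * g⁻¹ ∈ Cen1 u :=
    fun c => by
      obtain ⟨g, rfl⟩ := isConj_iff.1 (c.trans (e ▸ (isConj_mk g i).symm)).symm
      rw [← conj_c1]
      exact ⟨g, conj_mem_conjS xi, conj_mem_conjS yi⟩
  rcases h.cls (x := z) (h.inj (by rw [map_mul, ii o, map_one]))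
    (fun c => ine o (by rw [c, map_one])) with ⟨-, c⟩ | ⟨-, c⟩
  · obtain ⟨g, g1, g2⟩ := k c.isConj
    obtain ⟨x, hx⟩ := h.cen.ge g1
    obtain ⟨y, hy⟩ := h.cen.ge g2
    rcases isA_pair x (h.to_isA (hx ▸ hX.trans (isConj_mk g _))) y
      (h.to_isA (hy ▸ hY.trans (isConj_mk g _))) with e | e
    · have := congrArg j e
      rw [map_mul, map_mul, hx, hy, conj_mul, conj_mul] at this
      simpa using this
    · have := congrArg j e
      rw [map_mul, map_mul, map_mul, hx, hy, conj_mul, conj_mul, conj_mul, map_one,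
        conj_eq_one_iff, ← pow_three'] at this
      have h2 := (orderOf_dvd_of_mem_zpowers hi).trans (orderOf_dvd_of_pow_eq_one this)
      rw [oi] at h2; omega
  · obtain ⟨g, g1, g2⟩ := k c.isConj
    have := c1.1 (h.Ac (h.mA (hY.trans (isConj_mk g _)) g2) (h.mA (hX.trans (isConj_mk g _)) g1))
    rw [conj_mul, conj_mul] at this
    simpa using this

theorem wc4 : w * (j c0 * (w * (j c0 * (w * (j c0 * (w * j c0)))))) = 1 := by
  have e := h.comm ww wr
  have cc : j c0 * j c0 = 1 := ii (h.o2' (by decide) (by decide))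
  rw [inv_eq_of_mul_eq_one_right ww] at e
  calc _ = w * j c0 * w * (j c0 * (w * j c0 * w)) * j c0 := by simp only [mul_assoc]
    _ = w * j c0 * (w * w) * j c0 * w * (j c0 * j c0) := by rw [e]; simp only [mul_assoc]
    _ = 1 := by rw [ww, cc, mul_one, mul_one, mul_assoc w, cc, mul_one, ww]

theorem card_ge : 45 * 576 ≤ Nat.card G := by
  have hY := (h.of_isA (x := c0) (by decide)).trans (isConj_mk w _)
  have y1 : j c0 ∈ Cen1 (w * j c0 * w⁻¹) := c1.2 (h.comm ww wr)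
  have k : ∀ {a b : H0}, w * j a * w⁻¹ = j b → (j b ∈ Cen1 (w * j c0 * w⁻¹) ↔ a * c0 = c0 * a) :=
    fun e => by rw [← e, ← conj_c1, conj_mem_conjS_iff, c1, ← map_mul, ← map_mul, h.inj.eq_iff]
  have y2 : j b0 ∈ _ := (k h.act.a).2 (by decide)
  have y3 : j r0 ∈ _ := (inv_mem_iff).1 (map_inv j r0 ▸ (k wr).2 (by decide))
  have y4 : j t0 ∉ _ := fun c => absurd ((k h.act.d).1 c) (by decide)
  generalize w * j c0 * w⁻¹ = Y at hY y1 y2 y3 y4
  have y5 : ∀ q ∈ Q1, j q ∈ Cen1 Y → q = 1 := fun q hq c => by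
    rcases Q_reg q hq with rfl | rfl | ⟨e, he, e1⟩
    · rfl
    · exact absurd c y4
    · have : j e ∈ Cen1 Y := by
        simp only [List.mem_cons, List.not_mem_nil, or_false] at he
        rcases he with rfl | rfl <;> simp only [map_mul]
        exacts [mul_mem (mul_mem y3 y1) y2, mul_mem (mul_mem y3 y2) y1]
      have h1 := mul_mem (mul_mem this c) (inv_mem this)
      refine absurd ?_ y4
      rw [← e1]
      simp only [map_mul, map_inv]
      exact mul_mem (mul_mem (mul_mem c h1) (inv_mem c)) (inv_mem h1)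
  let f : {x // isA x = true} ⊕ Q1 → {x // Cj ⊤ (j t0) x} := Sum.elim
    (fun x => ⟨j x, cj_top.2 (h.of_isA x.2)⟩) fun q => ⟨_, cj_top.2 (hY.trans (isConj_mk (j q) _))⟩
  have n : ∀ x q : H0, j x ≠ j q * Y * (j q)⁻¹ := fun x q e => y4 (c1s.1 (h.cen.le
    ⟨q⁻¹ * x * q, by rw [map_mul, map_mul, map_inv, e]; group⟩))
  have hf : Function.Injective f := by
    rintro (a | a) (b | b) e <;> have e := congrArg Subtype.val e
    · exact congrArg _ (Subtype.ext (h.inj e))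
    · exact absurd e (n _ _)
    · exact absurd e.symm (n _ _)
    · refine congrArg _ (Subtype.ext (inv_mul_eq_one.1 (y5 _ (mul_mem (inv_mem a.2) b.2) ?_)))
      rw [c1', map_mul, map_inv]
      calc _ = (j a)⁻¹ * (j b * Y * (j b)⁻¹) * j a := by group
        _ = Y := by rw [show j b * Y * (j b)⁻¹ = j a * Y * (j a)⁻¹ from e.symm]; group
  have h1 := Nat.card_le_card_of_injective f hf
  rw [Nat.card_sum, card_Q1, Nat.subtype_card (Finset.univ.filter fun x => isA x = true)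
    (by simp), card_isA] at h1
  rw [← card_top, ← card_cj ⊤ (j t0), top_inf_eq, h.card_H]
  exact Nat.mul_le_mul_right _ h1

end

end JW

/-- all the data -/
structure JR (j : H0 →* G) (w : G) : Prop extends Rw j w where
  ws : w * (j s0 * (w * (j s0 * (w * j s0)))) = 1
  wc : w * (j c0 * (w * (j c0 * (w * (j c0 * (w * j c0)))))) = 1
  gen : j.range ⊔ zpowers w = ⊤
  card : 45 * 576 ≤ Nat.card G

theorem exists_JR (h : ∃ (j : H0 →* G) (w : G), JH j ∧ Act j w phi) :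
    ∃ (j : H0 →* G) (w : G), JR j w := by
  obtain ⟨j, w, h1, h2⟩ := h
  obtain ⟨w, h, ww, wr⟩ := JW.adjust ⟨h1, h2⟩
  exact ⟨j, w, h.rw ww wr, h.ws ww wr, h.wc4 ww wr, h.gen, h.card_ge ww wr⟩

theorem JR.bij {D : Type*} [Group D] [Finite D] (h : JR j w) {i : H0 →* D} {v : D}
    (c : Nat.card ↥(i.range ⊔ zpowers v) ≤ 45 * 576) (f : D →* G) (e1 : f.comp i = j)
    (e2 : f v = w) : Function.Bijective (f.comp (i.range ⊔ zpowers v).subtype) :=
  (Nat.bijective_iff_surjective_and_card _).2 (by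
    have s : Function.Surjective (f.comp (i.range ⊔ zpowers v).subtype) := by
      rw [← MonoidHom.range_eq_top, MonoidHom.range_comp, range_subtype, Subgroup.map_sup,
        MonoidHom.map_range, MonoidHom.map_zpowers, e1, e2, h.gen]
    exact ⟨s, le_antisymm (c.trans h.card) (Nat.card_le_card_of_surjective _ s)⟩)

theorem JR.iso {P : Type*} [Group P] [Finite P] {j' : H0 →* P} {w' : P} (h : JR j w)
    (h' : JR j' w') : Nonempty (G ≃* P) := by
  have c := Rw.card (j := j.prod j') (w := (w, w')) ⟨Prod.ext h.ww h'.ww, Prod.ext h.wr h'.wr,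
    Prod.ext h.wt h'.wt, Prod.ext h.wp h'.wp⟩ (Prod.ext h.ws h'.ws) (Prod.ext h.wc h'.wc)
  exact ⟨(MulEquiv.ofBijective _ (h.bij c (MonoidHom.fst G P) rfl rfl)).symm.trans
    (MulEquiv.ofBijective _ (h'.bij c (MonoidHom.snd G P) rfl rfl))⟩

end PS
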