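import Cfsg.Agent.PS.TC
import Cfsg.Agent.MT.Cod

/-! Fusion in a group with an involution centralizer of order 576 as in `PSp₄(3)`. -/

set_option autoImplicit false
set_option linter.unusedVariables false
set_option linter.unusedSectionVars false

namespace PS

open Cfsg Subgroup FT H4 H5 GW MT

variable {G : Type*} [Group G] [Finite G] {j : H0 →* G}

/-- `j` is an isomorphism onto the centralizer of `j t0` -/
structure JH (j : H0 →* G) : Prop where
  inj : Function.Injective j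
  cen : j.range = Cen1 (j t0)

/-- the action of `g` on the elementary abelian subgroup of order 16 -/
structure Act (j : H0 →* G) (g : G) (m : LM) : Prop where
  a : g * j t0 * g⁻¹ = j (aE m.a)
  b : g * j p0 * g⁻¹ = j (aE m.b)
  c : g * j q0 * g⁻¹ = j (aE m.c)
  d : g * j b0 * g⁻¹ = j (aE m.d)

namespace Act

variable {g g' : G} {m m' : LM}

theorem all (h : Act j g m) (v : V4) : g * j (aE v) * g⁻¹ = j (aE (m.ap v)) := by
  have k : ∀ (c : Bool) {u u' : V4}, g * j (aE u) * g⁻¹ = j (aE u') →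
      g * j (aE (V4.sm c u)) * g⁻¹ = j (aE (V4.sm c u')) := fun c u u' e => by
    cases c
    · change g * j 1 * g⁻¹ = j 1
      simp
    · exact e
  have l : ∀ {u u' v v' : V4}, g * j (aE u) * g⁻¹ = j (aE u') → g * j (aE v) * g⁻¹ = j (aE v') →
      g * j (aE (u.add v)) * g⁻¹ = j (aE (u'.add v')) := fun e e' => by
    rw [aE_add, aE_add, map_mul, map_mul, ← e, ← e']; group
  conv_lhs => rw [← ap_id v]
  exact l (l (l (k _ h.a) (k _ h.b)) (k _ h.c)) (k _ h.d)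

theorem mul (h : Act j g m) (h' : Act j g' m') : Act j (g * g') (m.comp m') :=
  ⟨by rw [conj_mul_conj', h'.a, h.all]; rfl, by rw [conj_mul_conj', h'.b, h.all]; rfl,
    by rw [conj_mul_conj', h'.c, h.all]; rfl, by rw [conj_mul_conj', h'.d, h.all]; rfl⟩
where
  conj_mul_conj' {x : G} : g * g' * x * (g * g')⁻¹ = g * (g' * x * g'⁻¹) * g⁻¹ := by group

theorem nor (h : Act j g m) : g ∈ Nor (A1.map j) := mnor (by
  rintro _ ⟨x, hx, rfl⟩
  obtain ⟨v, rfl⟩ := inA_iff x hx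
  exact ⟨_, inA_aE _, (h.all v).symm⟩)

theorem of_H {x : H0} (h : ActH x m) : Act j (j x) m :=
  have k : ∀ {a b : H0}, b * x = x * a → j x * j a * (j x)⁻¹ = j b := fun e => by
    rw [← map_mul, ← e, map_mul, mul_inv_cancel_right]
  ⟨k h.1, k h.2.1, k h.2.2.1, k h.2.2.2⟩

theorem to_H (hj : Function.Injective j) {x : H0} (h : Act j (j x) m) : ActH x m :=
  have k : ∀ {a b : H0}, j x * j a * (j x)⁻¹ = j b → b * x = x * a := fun e => hj (by
    rw [map_mul, map_mul, ← e, inv_mul_cancel_right])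
  ⟨k h.1, k h.2, k h.3, k h.4⟩

theorem uniq (hj : Function.Injective j) (h : Act j g m) (h' : Act j g m') : m = m' := by
  cases m; cases m'
  simp only [LM.mk.injEq]
  exact ⟨aE_inj _ _ (hj (h.a.symm.trans h'.a)), aE_inj _ _ (hj (h.b.symm.trans h'.b)),
    aE_inj _ _ (hj (h.c.symm.trans h'.c)), aE_inj _ _ (hj (h.d.symm.trans h'.d))⟩

theorem ex (h : g ∈ Nor (A1.map j)) : ∃ m, Act j g m := by
  have k : ∀ x, inA x = true → ∃ v, g * j x * g⁻¹ = j (aE v) := fun x hx => by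
    obtain ⟨y, hy, e⟩ := cmem h (mem_map_of_mem j (show x ∈ A1 from hx))
    obtain ⟨v, rfl⟩ := inA_iff y hy
    exact ⟨v, e.symm⟩
  obtain ⟨a, ha⟩ := k t0 (by decide)
  obtain ⟨b, hb⟩ := k p0 (by decide)
  obtain ⟨c, hc⟩ := k q0 (by decide)
  obtain ⟨d, hd⟩ := k b0 (by decide)
  exact ⟨⟨a, b, c, d⟩, ha, hb, hc, hd⟩

theorem exB {b : LM} (hb : b ∈ Bl) : ∃ x, Act j (j x) b :=
  (actH_ex b hb).imp fun _ => of_H

theorem phi_inv (h : Act j g phi) : Act j g⁻¹ phi :=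
  have k : ∀ v, g⁻¹ * j (aE (phi.ap v)) * g⁻¹⁻¹ = j (aE v) := fun v => by rw [← h.all]; group
  ⟨k (vn 8), k (vn 4), k (vn 2), k (vn 1)⟩

end Act

namespace JH

variable (h : JH j)
include h

theorem ot : orderOf (j t0) = 2 := by
  rw [orderOf_injective j h.inj]; exact o2 (by decide) (by decide)

theorem o2' {x : H0} (h1 : x * x = 1) (h2 : x ≠ 1) : orderOf (j x) = 2 := by
  rw [orderOf_injective j h.inj]; exact o2 h1 h2

theorem mem {g : G} (e : g * j t0 * g⁻¹ = j t0) : ∃ x, j x = g := h.cen.ge (c1'.2 e)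

theorem card_map (K : Subgroup H0) : Nat.card (K.map j) = Nat.card K := card_map_of_injective h.inj

theorem card_H : Nat.card (Cen1 (j t0)) = 576 := by
  rw [← h.cen, ← Nat.card_congr (MonoidHom.ofInjective h.inj).toEquiv, Nat.card_eq_fintype_card,
    H0.card_H0]

theorem pS : IsPGroup 2 (S1.map j) := IsPGroup.of_card (n := 6) (by rw [h.card_map, card_S1]; rfl)

theorem sylH : IsSylowOf 2 (S1.map j) (Cen1 (j t0)) :=
  isSylowOf_of_card (h.cen ▸ map_le_range j _) h.pS (by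
    rw [h.card_H, h.card_map, card_S1, show 576 = 2 ^ 6 * 9 from rfl,
      Nat.factorization_mul (by norm_num) (by norm_num), Nat.prime_two.factorization_pow]
    simp [Nat.factorization_eq_zero_of_not_dvd])

theorem zc {x : G} (hx : x ∈ S1.map j) (o : orderOf x = 2) (hc : S1.map j ≤ Cen1 x) :
    x = j t0 := by
  obtain ⟨c, hc', rfl⟩ := hx
  rcases zS c hc' fun d hd => h.inj (by
    rw [map_mul, map_mul]; exact c1.1 (hc (mem_map_of_mem j hd))) with rfl | rfl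
  · exact absurd (map_one j) (ine o)
  · rfl

theorem syl : IsSylowOf 2 (S1.map j) ⊤ := by
  by_contra hc
  obtain ⟨R, r1, r2, r3⟩ := ex_gt h.pS le_top hc
  refine r2.ne' (h.sylH.eq_of_le r1 r2.le fun k hk => c1'.2 (h.zc (cmem (r3 hk).2
    (mem_map_of_mem j (by decide : inS t0 = true))) (iconj h.ot k) fun x hx => ?_))
  rw [← conj_c1, mem_conjS]
  exact h.sylH.le (cmem' (r3 hk).2 hx)

theorem AS : A1.map j ≤ S1.map j := map_mono fun x hx => (A1_le x hx).1

theorem Ac {x : G} (hx : x ∈ A1.map j) : A1.map j ≤ Cen1 x := by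
  rintro _ ⟨y, hy, rfl⟩
  obtain ⟨x, hx, rfl⟩ := hx
  obtain ⟨u, rfl⟩ := inA_iff x hx
  obtain ⟨v, rfl⟩ := inA_iff y hy
  rw [c1, ← map_mul, aE_comm, map_mul]

theorem wc {g : G} (e : ∀ a ∈ A1.map j, g * a * g⁻¹ ∈ S1.map j) : g ∈ Nor (A1.map j) := by
  refine mnor fun a ha => ?_
  obtain ⟨c, hc, e1⟩ := e a ha
  have sq : ∀ a ∈ A1.map j, g * a * g⁻¹ * (g * a * g⁻¹) = 1 := by
    rintro _ ⟨x, hx, rfl⟩
    rw [conj_mul, ← map_mul, (A1_le x hx).2]; simp
  refine ⟨c, wcl c hc (h.inj (by rw [map_mul, e1, sq a ha, map_one])) ?_, e1⟩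
  rw [← card_A1, ← h.card_map, ← card_conjS g]
  refine card_img_le h.inj _ ?_
  rintro _ ⟨b, hb, rfl⟩
  obtain ⟨x, hx, e2⟩ := e b hb
  refine ⟨x, ⟨hx, h.inj (by rw [map_mul, e2, sq b hb, map_one]), h.inj ?_⟩, e2⟩
  rw [map_mul, map_mul, e1, e2, conj_mul, conj_mul, c1.1 (h.Ac ha hb)]

theorem ctl {a b : G} (ha : a ∈ A1.map j) (hb : b ∈ A1.map j) (e : IsConj a b) :
    ∃ g ∈ Nor (A1.map j), g * a * g⁻¹ = b := by
  have pA := h.pS.to_le h.AS
  obtain ⟨P, hP, hA⟩ := exists_isSylowOf_ge pA (le_inf le_top (h.Ac hb))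
  obtain ⟨g, -, e1, e2⟩ := ext0 hP pA (le_inf le_top (h.Ac ha)) (cj_top.2 e)
  obtain ⟨d, -, e3⟩ := h.syl.exists_conj_le hP.isPGroup le_top
  have h1 := h.wc fun a ha => e3 (conj_mem_conjS (hA ha))
  have h2 := h.wc (g := d * g) fun a ha => mem_of_eq (e3 (conj_mem_conjS (e2 a ha))) (by group)
  exact ⟨g, mem_of_eq (mul_mem (inv_mem h1) h2) (by group), e1⟩

theorem con {g g' : G} {m m' : LM} (h1 : Act j g m) (h2 : Act j g' m') : con m m' = true := by
  rw [PS.con, Bool.or_eq_true, Bool.not_eq_true', ← Bool.not_eq_true, V4.beq_iff, List.any_eq_true]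
  refine or_iff_not_imp_left.2 fun e => ?_
  obtain ⟨x, hx⟩ := h.mem (g := g'⁻¹ * g) (by
    rw [show g'⁻¹ * g * j t0 * (g'⁻¹ * g)⁻¹ = g'⁻¹ * (g * j t0 * g⁻¹) * g' by group, h1.a,
      not_not.1 e, ← h2.a]; group)
  have hn : j x ∈ Nor (A1.map j) := hx ▸ mul_mem (inv_mem h2.nor) h1.nor
  have k : ∀ y, inA y = true → inA (x * y * x⁻¹) = true := fun y hy => by
    have := cmem hn (mem_map_of_mem j (show y ∈ A1 from hy))
    rw [← map_inv, ← map_mul, ← map_mul] at this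
    exact (mem_map_iff_mem h.inj).1 this
  obtain ⟨b, hb, e1⟩ := actH_of x (k _ (by decide)) (k _ (by decide))
  have := h2.mul (Act.of_H (j := j) e1)
  rw [hx, mul_inv_cancel_left] at this
  exact ⟨b, hb, LM.beq_iff.2 (h1.uniq h.inj this)⟩

theorem chk {g : G} {m : LM} (h1 : Act j g m) (e : chk m = true) :
    ∃ b ∈ Bl, m = phi.comp b ∨ m = phi2.comp b := by
  simp only [PS.chk, Bool.or_eq_true, List.any_eq_true, Bool.not_eq_true', V4.beq_iff,
    LM.beq_iff, List.mem_range] at e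
  rcases e with (((⟨v, hv, e⟩ | ⟨b, hb, e⟩) | e) | ⟨b, hb, b2, hb2, e⟩) |
    ⟨b, hb, b2, hb2, b3, hb3, e⟩
  · have := h1.all (vn (v + 1))
    rw [e, show j (aE V4.o) = 1 from map_one j, conj_eq_one_iff] at this
    exact absurd (aE_inj _ .o (h.inj (this.trans (map_one j).symm))) (vn_ne v hv)
  · obtain ⟨x, hx⟩ := Act.exB (j := j) hb
    rw [h.con (hx.mul h1) h1] at e; exact absurd e (by decide)
  · exact e
  · obtain ⟨x, hx⟩ := Act.exB (j := j) hb
    obtain ⟨y, hy⟩ := Act.exB (j := j) hb2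
    rw [h.con (h1.mul (hx.mul h1)) (hy.mul h1)] at e; exact absurd e (by decide)
  · obtain ⟨x, hx⟩ := Act.exB (j := j) hb
    obtain ⟨y, hy⟩ := Act.exB (j := j) hb2
    obtain ⟨z, hz⟩ := Act.exB (j := j) hb3
    rw [h.con (h1.mul (hx.mul h1)) (hy.mul (h1.mul (hz.mul h1)))] at e
    exact absurd e (by decide)

theorem tp : ¬ IsConj (j t0) (j p0) := fun e => by
  obtain ⟨g, hg, e⟩ := h.ctl (mem_map_of_mem j (by decide : inA t0 = true))
    (mem_map_of_mem j (by decide : inA p0 = true)) e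
  obtain ⟨⟨a, b, c, d⟩, hm⟩ := Act.ex hg
  obtain rfl : a = vn 2 := aE_inj _ _ (h.inj (hm.a.symm.trans e))
  obtain ⟨b, hb, e | e⟩ := h.chk hm (chk2 b c d)
  exacts [(phi_inv b hb).1 (e ▸ rfl), (phi_inv b hb).2.1 (e ▸ rfl)]

theorem ex_phi {g : G} (hg : g ∈ Nor (A1.map j)) (hn : g ∉ Cen1 (j t0)) :
    ∃ w, Act j w phi ∨ Act j w phi2 := by
  obtain ⟨m, hm⟩ := Act.ex hg
  obtain ⟨b, hb, e⟩ := orb m.a (fun e => ine (iconj h.ot g) (by rw [hm.a, e]; exact map_one j))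
    fun e => hn (c1'.2 (by rw [hm.a, e]; rfl))
  obtain ⟨x, hx⟩ := Act.exB (j := j) hb
  have h1 := hx.mul hm
  obtain ⟨b1, hb1, e1⟩ := h.chk h1 (by
    rcases e with e | e | e <;> rw [LM.comp, e]
    exacts [chk2 .., chk8 .., chk9 ..])
  obtain ⟨b2, hb2, e2, e3⟩ := (phi_inv b1 hb1).2.2
  obtain ⟨y, hy⟩ := Act.exB (j := j) hb2
  have h2 := h1.mul hy
  exact ⟨_, e1.imp (fun e => by rwa [e, e2] at h2) fun e => by rwa [e, e3] at h2⟩

theorem tw : JH (j.comp tw) :=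
  ⟨h.inj.comp (Function.LeftInverse.injective tw_tw), by
    rw [MonoidHom.range_comp, MonoidHom.range_eq_top.2 (Function.RightInverse.surjective tw_tw),
      ← MonoidHom.range_eq_map, h.cen]; rfl⟩

theorem ex_w {g : G} (hg : g ∈ Nor (A1.map j)) (hn : g ∉ Cen1 (j t0)) :
    ∃ (j' : H0 →* G) (w : G), JH j' ∧ Act j' w phi := by
  obtain ⟨w, hw | hw⟩ := h.ex_phi hg hn
  · exact ⟨j, w, h, hw⟩
  · exact ⟨_, w, h.tw, hw.a, hw.b, hw.c, hw.all (vn 9)⟩

theorem ex_w1 (e : IsConj (j t0) (j b0)) : ∃ (j' : H0 →* G) (w : G), JH j' ∧ Act j' w phi := by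
  obtain ⟨g, hg, e⟩ := h.ctl (mem_map_of_mem j (by decide : inA t0 = true))
    (mem_map_of_mem j (by decide : inA b0 = true)) e
  exact h.ex_w hg fun c => absurd (h.inj (e.symm.trans (c1'.1 c))) (by decide)

theorem ex_w2 (h2 : ∀ N : Subgroup G, N.index ≠ 2) :
    ∃ (j' : H0 →* G) (w : G), JH j' ∧ Act j' w phi := by
  obtain ⟨φ, hφ⟩ := tt' h.syl (M := Q1.map j) (map_mono fun x hx => (Q1_le x hx).1)
    (by rw [h.card_map, h.card_map, card_S1, card_Q1])
  have ob := h.o2' (x := b0) (by decide) (by decide)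
  obtain ⟨_, ⟨s, hs, rfl⟩, e⟩ : ∃ s ∈ Q1.map j, Cj ⊤ (j b0) s := by
    by_contra hc
    have := card_kr (mem_top _) (hφ _ (mem_top _) (ii ob) fun s hs e => hc ⟨s, hs, e⟩)
    rw [card_top, ← (kr φ).index_mul_card] at this
    exact h2 _ (Nat.eq_of_mul_eq_mul_right Nat.card_pos this)
  obtain ⟨k, -, e1⟩ := id e
  have os : orderOf (j s) = 2 := e1 ▸ iconj ob k
  rcases invQ s hs (h.inj (by rw [map_mul, ii os, map_one])) with rfl | rfl | ⟨d, hd⟩
  · exact absurd (map_one j) (ine os)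
  · exact h.ex_w1 e.isConj.symm
  obtain ⟨g, hg, e⟩ := h.ctl (mem_map_of_mem j (by decide : inA p0 = true))
    (mem_map_of_mem j (by decide : inA b0 = true)) (IsConj.trans (isConj_iff.2 ⟨j d, by
      rw [← map_mul, hd, map_mul, mul_inv_cancel_right]⟩) e.isConj.symm)
  refine h.ex_w hg fun c => ?_
  obtain ⟨x, rfl⟩ := h.cen.ge c
  rw [← map_inv, ← map_mul, ← map_mul] at e
  exact absurd (conj_s x) (by rw [h.inj e]; decide)

end JH

end PS
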