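import Mathlib.Algebra.Group.Subgroup.Ker
import Mathlib.Algebra.Group.MinimalAxioms
import Mathlib.Algebra.Group.Fin.Basic
import Mathlib.Data.Fintype.Prod
import Mathlib.Data.Fintype.Card
import Mathlib.Tactic.Group
import Mathlib.Tactic.FinCases

/-! The group `(SL₂(3) ∘ SL₂(3)) : 2` of order 576 in coordinates. -/

set_option autoImplicit false

namespace PS

/-- fast exclusive or -/
def bx (a b : Bool) : Bool := Bool.rec b (Bool.rec true false b) a
/-- fast conjunction -/
def ba (a b : Bool) : Bool := Bool.rec false b a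

/-- the alternating group of degree four: `i ^ a j ^ b ω ^ e` -/
structure A4 where
  a : Bool
  b : Bool
  e : Fin 3
  deriving DecidableEq

namespace A4

/-- coordinates -/
def equivProd : Bool × Bool × Fin 3 ≃ A4 where
  toFun x := ⟨x.1, x.2.1, x.2.2⟩
  invFun x := (x.a, x.b, x.e)
  left_inv _ := rfl
  right_inv _ := rfl

instance instFintypeA4 : Fintype A4 := Fintype.ofEquiv _ equivProd

def oa (e : Fin 3) (q : A4) : Bool :=
  bif Nat.beq e.val 0 then q.a else bif Nat.beq e.val 1 then q.b else bx q.a q.b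
def ob (e : Fin 3) (q : A4) : Bool :=
  bif Nat.beq e.val 0 then q.b else bif Nat.beq e.val 1 then bx q.a q.b else q.a
def mul (p q : A4) : A4 := ⟨bx p.a (oa p.e q), bx p.b (ob p.e q), p.e + q.e⟩
def inv (p : A4) : A4 := ⟨oa (-p.e) p, ob (-p.e) p, -p.e⟩
def coc (p q : A4) : Bool := bx (ba (bx p.a p.b) (oa p.e q)) (ba p.b (ob p.e q))
def o : A4 := ⟨false, false, 0⟩
def i : A4 := ⟨true, false, 0⟩
def j : A4 := ⟨false, true, 0⟩
def w : A4 := ⟨false, false, 1⟩

theorem mul_assoc : ∀ p q r, mul (mul p q) r = mul p (mul q r) := by decide +kernel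
theorem coc_id : ∀ p q r, coc (mul p q) r = bx (bx (coc q r) (coc p (mul q r))) (coc p q) := by
  decide +kernel

end A4

/-- `(± p, q) β ^ s` -/
structure H0 where
  z : Bool
  p : A4
  q : A4
  s : Bool
  deriving DecidableEq

namespace H0

instance instMulH0 : Mul H0 := ⟨fun x y => ⟨bx (bx (bx x.z y.z) (x.p.coc (bif x.s then y.q else y.p)))
  (x.q.coc (bif x.s then y.p else y.q)), x.p.mul (bif x.s then y.q else y.p),
  x.q.mul (bif x.s then y.p else y.q), bx x.s y.s⟩⟩
instance instOneH0 : One H0 := ⟨⟨false, .o, .o, false⟩⟩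
instance instInvH0 : Inv H0 := ⟨fun x => ⟨bx (bx x.z (x.p.coc x.p.inv)) (x.q.coc x.q.inv),
  (bif x.s then x.q else x.p).inv, (bif x.s then x.p else x.q).inv, x.s⟩⟩

theorem mul_def (x y : H0) : x * y = ⟨bx (bx (bx x.z y.z) (x.p.coc (bif x.s then y.q else y.p)))
  (x.q.coc (bif x.s then y.p else y.q)), x.p.mul (bif x.s then y.q else y.p),
  x.q.mul (bif x.s then y.p else y.q), bx x.s y.s⟩ := rfl

/-- coordinates -/
def equivProd : Bool × A4 × A4 × Bool ≃ H0 where
  toFun x := ⟨x.1, x.2.1, x.2.2.1, x.2.2.2⟩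
  invFun x := (x.z, x.p, x.q, x.s)
  left_inv _ := rfl
  right_inv _ := rfl

instance instFintypeH0 : Fintype H0 := Fintype.ofEquiv _ equivProd

theorem bx9 : ∀ z z' z'' a b c d e f : Bool,
    bx (bx (bx (bx (bx (bx z z') a) b) z'') (bx (bx c d) a)) (bx (bx e f) b) =
      bx (bx (bx z (bx (bx (bx z' z'') c) e)) d) f ∧
    bx (bx (bx (bx (bx (bx z z') a) b) z'') (bx (bx c d) a)) (bx (bx e f) b) =
      bx (bx (bx z (bx (bx (bx z' z'') e) c)) d) f := by decide +kernel

instance instGroupH0 : Group H0 := Group.ofLeftAxioms (by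
  rintro ⟨z, p, q, s⟩ ⟨z', p', q', s'⟩ ⟨z'', p'', q'', s''⟩
  cases s <;> cases s' <;> cases s'' <;>
    simp only [mul_def, cond_true, cond_false, A4.mul_assoc, A4.coc_id,
      show bx true true = false from rfl, show bx true false = true from rfl,
      show bx false true = true from rfl, show bx false false = false from rfl, H0.mk.injEq,
      and_true] <;>
    first | exact (bx9 ..).1 | exact (bx9 ..).2) (by decide +kernel) (by decide +kernel)

theorem card_H0 : Fintype.card H0 = 576 := by decide +kernel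

end H0

def t0 : H0 := ⟨true, .o, .o, false⟩
def b0 : H0 := ⟨false, .o, .o, true⟩
def p0 : H0 := ⟨false, .i, .i, false⟩
def q0 : H0 := ⟨false, .j, .j, false⟩
def s0 : H0 := ⟨false, .i, .j, false⟩
def r0 : H0 := ⟨false, .w, .w, false⟩
def c0 : H0 := ⟨false, ⟨false, false, 2⟩, .w, true⟩
def j0 : H0 := ⟨true, .o, .o, true⟩

def inS (x : H0) : Bool := Nat.beq x.p.e.val 0 && Nat.beq x.q.e.val 0
def inQ (x : H0) : Bool := inS x && !x.s
def inA (x : H0) : Bool := inS x && x.p == x.q
/-- the conjugates of the central involution -/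
def isA (x : H0) : Bool := x == t0 || (x.s && x.q == x.p.inv && x.z == x.p.coc x.p.inv)
/-- a complement `A₄` -/
def inC (x : H0) : Bool := !x.s && x.q == A4.mul (A4.mul .w x.p) A4.w.inv &&
  x.z == (A4.coc .w x.p != A4.coc x.q .w)

/-- the subgroup given by a Boolean predicate -/
def sub (p : H0 → Bool) (h : p 1 = true ∧ ∀ x, p x = true → p x⁻¹ = true ∧
    ∀ y, p y = true → p (x * y) = true) : Subgroup H0 where
  carrier := {x | p x = true}
  one_mem' := h.1
  mul_mem' hx hy := (h.2 _ hx).2 _ hy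
  inv_mem' hx := (h.2 _ hx).1

def S1 : Subgroup H0 := sub inS (by decide +kernel)
def Q1 : Subgroup H0 := sub inQ (by decide +kernel)
def A1 : Subgroup H0 := sub inA (by decide +kernel)
def C1 : Subgroup H0 := sub inC (by decide +kernel)

/-- vectors of length four -/
structure V4 where
  x : Bool
  y : Bool
  z : Bool
  w : Bool
  deriving DecidableEq

/-- coordinates -/
def V4.equivProd : Bool × Bool × Bool × Bool ≃ V4 where
  toFun x := ⟨x.1, x.2.1, x.2.2.1, x.2.2.2⟩
  invFun x := (x.x, x.y, x.z, x.w)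
  left_inv _ := rfl
  right_inv _ := rfl

instance instFintypeV4 : Fintype V4 := Fintype.ofEquiv _ V4.equivProd

def V4.add (u v : V4) : V4 := ⟨bx u.x v.x, bx u.y v.y, bx u.z v.z, bx u.w v.w⟩
def V4.o : V4 := ⟨false, false, false, false⟩
def V4.sm (c : Bool) (v : V4) : V4 := Bool.rec V4.o v c
def vn (n : ℕ) : V4 := ⟨n.testBit 0, n.testBit 1, n.testBit 2, n.testBit 3⟩
def V4.beq (u v : V4) : Bool := !(bx u.x v.x) && !(bx u.y v.y) && !(bx u.z v.z) && !(bx u.w v.w)

theorem V4.beq_iff : ∀ u v : V4, u.beq v = true ↔ u = v := by decide +kernel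

/-- the elements of the elementary abelian subgroup of order 16 -/
def aE (v : V4) : H0 := ⟨v.x, ⟨v.y, v.z, 0⟩, ⟨v.y, v.z, 0⟩, v.w⟩

theorem aE_add : ∀ u v, aE (u.add v) = aE u * aE v := by decide +kernel
theorem aE_inj : ∀ u v, aE u = aE v → u = v := by decide +kernel
theorem inA_iff : ∀ x, inA x = true → ∃ v, aE v = x := by decide +kernel
theorem inA_aE : ∀ v, inA (aE v) = true := by decide +kernel

/-- linear maps -/
structure LM where
  a : V4
  b : V4
  c : V4
  d : V4
  deriving DecidableEq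

def LM.ap (m : LM) (v : V4) : V4 :=
  (((V4.sm v.x m.a).add (V4.sm v.y m.b)).add (V4.sm v.z m.c)).add (V4.sm v.w m.d)
def LM.comp (m n : LM) : LM := ⟨m.ap n.a, m.ap n.b, m.ap n.c, m.ap n.d⟩
def LM.beq (m n : LM) : Bool := m.a.beq n.a && m.b.beq n.b && m.c.beq n.c && m.d.beq n.d
def lm (a b c d : ℕ) : LM := ⟨vn a, vn b, vn c, vn d⟩

theorem LM.beq_iff {m n : LM} : m.beq n = true ↔ m = n := by
  cases m; cases n; simp [LM.beq, V4.beq_iff, and_assoc]

def Bl : List LM := [lm 1 2 4 8, lm 1 2 5 11, lm 1 3 4 13, lm 1 3 5 15, lm 1 4 6 8, lm 1 4 7 13,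
  lm 1 5 6 15, lm 1 5 7 11, lm 1 6 2 8, lm 1 6 3 15, lm 1 7 2 11, lm 1 7 3 13]
def phi : LM := lm 8 4 2 1
def phi2 : LM := lm 9 4 2 8

/-- the action of an element of `H0` -/
def ActH (h : H0) (m : LM) : Prop := aE m.a * h = h * t0 ∧ aE m.b * h = h * p0 ∧
  aE m.c * h = h * q0 ∧ aE m.d * h = h * b0

instance decActH (h : H0) (m : LM) : Decidable (ActH h m) := by unfold ActH; infer_instance

theorem actH_of : ∀ h : H0, inA (h * p0 * h⁻¹) = true → inA (h * b0 * h⁻¹) = true →
    ∃ b ∈ Bl, ActH h b := by decide +kernel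

theorem actH_ex : ∀ b ∈ Bl, ∃ h, ActH h b := by decide +kernel

def con (m n : LM) : Bool := !(m.a.beq n.a) || Bl.any fun b => m.beq (n.comp b)

def chk (m : LM) : Bool :=
  (List.range 15).any (fun v => (m.ap (vn (v + 1))).beq .o) ||
  Bl.any (fun b => !con (b.comp m) m) ||
  Bl.any (fun b => m.beq (phi.comp b) || m.beq (phi2.comp b)) ||
  Bl.any (fun b => Bl.any fun b2 => !con (m.comp (b.comp m)) (b2.comp m)) ||
  Bl.any (fun b => Bl.any fun b2 => Bl.any fun b3 =>
    !con (m.comp (b.comp m)) (b2.comp (m.comp (b3.comp m))))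

theorem chk2 : ∀ b c d, chk ⟨vn 2, b, c, d⟩ = true := by decide +kernel
theorem chk8 : ∀ b c d, chk ⟨vn 8, b, c, d⟩ = true := by decide +kernel
theorem chk9 : ∀ b c d, chk ⟨vn 9, b, c, d⟩ = true := by decide +kernel

end PS
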