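import Cfsg.Agent.PS.H0
import Mathlib.SetTheory.Cardinal.Finite
import Mathlib.Algebra.Group.Subgroup.Finite

/-! Finite facts about the group of order 576. -/

set_option autoImplicit false

namespace PS

theorem card_sub (p : H0 → Bool) (h) :
    Nat.card (sub p h) = (Finset.univ.filter fun x => p x = true).card :=
  Nat.subtype_card _ fun x => by simp; rfl

theorem card_S1 : Nat.card S1 = 64 := (card_sub _ _).trans (by decide +kernel)
theorem card_Q1 : Nat.card Q1 = 32 := (card_sub _ _).trans (by decide +kernel)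
theorem card_A1 : Nat.card A1 = 16 := (card_sub _ _).trans (by decide +kernel)
theorem card_isA : (Finset.univ.filter fun x => isA x = true).card = 13 := by decide +kernel

theorem Q1_le : ∀ x, inQ x = true → inS x = true ∧ x.s = false := by decide +kernel
theorem A1_le : ∀ x, inA x = true → inS x = true ∧ x * x = 1 := by decide +kernel
theorem aE_comm : ∀ u v, aE u * aE v = aE v * aE u := by decide +kernel

theorem zS : ∀ c, inS c = true → (∀ d, inS d = true → d * c = c * d) → c = 1 ∨ c = t0 := by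
  decide +kernel
theorem zH : ∀ c, (∀ d, d * c = c * d) → c = 1 ∨ c = t0 := by decide +kernel
theorem t0_comm : ∀ c, c * t0 = t0 * c := by decide +kernel

theorem wcl : ∀ c, inS c = true → c * c = 1 → 16 ≤ (Finset.univ.filter fun x =>
    inS x = true ∧ x * x = 1 ∧ x * c = c * x).card → inA c = true := by decide +kernel

theorem invQ : ∀ s, inQ s = true → s * s = 1 → s = 1 ∨ s = t0 ∨ ∃ d, d * p0 = s * d := by
  decide +kernel

theorem isA_cl : ∀ s, isA s = true → s * s = 1 ∧ s ≠ 1 ∧ (s = t0 ∨ ∃ d, d * b0 = s * d) := by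
  decide +kernel

theorem nisA_cl : ∀ s, s * s = 1 → isA s = false → s = 1 ∨ (∃ d, d * p0 = s * d) ∨
    ∃ d, d * j0 = s * d := by decide +kernel

theorem conj_s : ∀ h : H0, (h * p0 * h⁻¹).s = false := by decide +kernel

theorem orb : ∀ v : V4, v ≠ .o → v ≠ vn 1 →
    ∃ b ∈ Bl, b.ap v = vn 2 ∨ b.ap v = vn 8 ∨ b.ap v = vn 9 := by decide +kernel

theorem orbA : ∀ v : V4, isA (aE v) = true → v = vn 1 ∨ ∃ b ∈ Bl, phi.ap (b.ap v) = vn 1 := by
  decide +kernel

theorem phi_inv : ∀ b ∈ Bl, (phi.comp b).a ≠ vn 2 ∧ (phi2.comp b).a ≠ vn 2 ∧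
    ∃ b' ∈ Bl, (phi.comp b).comp b' = phi ∧ (phi2.comp b).comp b' = phi2 := by decide +kernel

theorem ap_id : ∀ v, (lm 1 2 4 8).ap v = v := by decide +kernel
theorem vn_ne : ∀ v < 15, vn (v + 1) ≠ .o := by decide +kernel

/-- the twisting automorphism -/
def tw : H0 →* H0 where
  toFun x := ⟨bx x.z x.s, x.p, x.q, x.s⟩
  map_one' := rfl
  map_mul' := by
    rintro ⟨z, p, q, s⟩ ⟨z', p', q', s'⟩
    simp only [H0.mul_def, H0.mk.injEq, and_true]
    generalize p.coc _ = a
    generalize q.coc _ = b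
    revert z s z' s' a b
    decide

theorem tw_tw : ∀ x, tw (tw x) = x := by decide +kernel

theorem adj1 : ∀ h, ActH h (lm 1 6 2 8) → h * h * h = 1 → ∃ v, aE v * h * (aE v)⁻¹ = r0⁻¹ := by
  decide +kernel
theorem cenA1 : ∀ h, ActH h (lm 1 2 4 8) → ∃ v, aE v = h := by decide +kernel
theorem adj2 : ∀ v, phi.ap v = v → aE v * r0 = r0 * aE v → aE v = 1 ∨ aE v = j0 := by
  decide +kernel
theorem adj3 : ∀ v, phi.ap v = v → aE v * s0 = s0 * aE v → aE v = 1 ∨ aE v = p0 * q0 := by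
  decide +kernel
theorem act_r : ActH r0 (lm 1 4 6 8) := by decide +kernel
theorem act_s : ActH s0 (lm 1 3 5 15) := by decide +kernel
theorem act_aE : ∀ v, ActH (aE v) (lm 1 2 4 8) := by decide +kernel

theorem cenA0 : ∀ h, isA h = true → ∀ v, isA (aE v) = false → v ≠ .o → h * aE v = aE v * h →
    inA h = true := by decide +kernel
theorem prodA : ∀ u v : V4, isA (aE (vn 11) * aE u) = true → isA (aE (vn 13) * aE v) = true →
    aE u ≠ 1 → aE v ≠ 1 → ∃ n, isA (aE n) = true ∧ (aE n = aE u * j0 ∨ aE n = aE v * j0 ∨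
      aE n = aE u * aE v ∨ aE n = aE u * aE v * j0) := by decide +kernel
theorem twoA : ∀ v, isA (aE v) = true → isA (aE v * j0) = true → aE v = t0 ∨ aE v = b0 := by
  decide +kernel
theorem no_inv : ∀ h : H0, h * r0 * h⁻¹ ≠ r0⁻¹ := by decide +kernel
theorem isA_pair : ∀ x, isA x = true → ∀ y, isA y = true →
    x * y = y * x ∨ y * x * (y * x) * (y * x) = 1 := by decide +kernel
theorem c0_cj : ∃ d, d * r0 = r0 * d ∧ d * b0 * d⁻¹ = c0 := by decide +kernel
theorem Q_reg : ∀ q, inQ q = true → q = 1 ∨ q = t0 ∨ ∃ e ∈ [r0 * c0 * b0, r0 * b0 * c0],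
    q * (e * q * e⁻¹) * q⁻¹ * (e * q * e⁻¹)⁻¹ = t0 := by decide +kernel

/-- the first factor -/
def lf (p : A4) : H0 := ⟨false, p, .o, false⟩

theorem nf1 : ∀ p, lf p = (bif p.a then c0 * p0 * c0 * q0 else 1) *
    (bif p.b then s0 * c0 * p0 * c0 else 1) * (c0 * b0 * r0 * r0) ^ p.e.val := by decide +kernel
theorem nf2 : ∀ x : H0, x = (bif x.z then t0 else 1) * lf x.p * (b0 * lf x.q * b0) *
    (bif x.s then b0 else 1) := by decide +kernel

theorem gen_H0 {A : Subgroup H0} (hs : s0 ∈ A) (hb : b0 ∈ A) (ht : t0 ∈ A) (hp : p0 ∈ A)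
    (hq : q0 ∈ A) (hc : c0 ∈ A) (hr : r0 ∈ A) (x : H0) : x ∈ A := by
  have k : ∀ (c : Bool) (a : H0), a ∈ A → (bif c then a else 1) ∈ A := fun c a h => by
    cases c
    exacts [one_mem A, h]
  have l : ∀ p, lf p ∈ A := fun p => by
    rw [nf1]
    exact mul_mem (mul_mem (k _ _ (mul_mem (mul_mem (mul_mem hc hp) hc) hq))
      (k _ _ (mul_mem (mul_mem (mul_mem hs hc) hp) hc)))
      (pow_mem (mul_mem (mul_mem (mul_mem hc hb) hr) hr) _)
  rw [nf2 x]
  exact mul_mem (mul_mem (mul_mem (k _ _ ht) (l _)) (mul_mem (mul_mem hb (l _)) hb)) (k _ _ hb)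

end PS
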