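import Cfsg.Agent.PS.Cen
import Cfsg.Agent.H9.Sp4b
import Cfsg.Agent.H2.F4

/-! The centralizer of a 2-central involution of `PSp₄(3)`. -/

set_option autoImplicit false
set_option linter.unusedVariables false
set_option linter.unusedSectionVars false

namespace PS

open Cfsg Subgroup FT H4 H5 GW MT Matrix

abbrev K3 := ZMod 3
abbrev M2 := Matrix (Fin 2) (Fin 2) K3
abbrev M4 := Matrix H9.I4 H9.I4 K3

instance factThreePS : Fact (Nat.Prime 3) := ⟨Nat.prime_three⟩

def blk (a b : M2) : M4 := fromBlocks !![a 0 0, 0; 0, b 0 0] !![a 0 1, 0; 0, b 0 1]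
  !![a 1 0, 0; 0, b 1 0] !![a 1 1, 0; 0, b 1 1]
def sw : M4 := fromBlocks !![0, 1; 1, 0] 0 0 !![0, 1; 1, 0]
def g0 : M4 := fromBlocks !![1, 1; 1, 2] 0 0 !![2, 2; 2, 1]
def sg (z : Bool) : K3 := bif z then -1 else 1
def ent (p : A4) (k : ℕ) : K3 :=
  ((22776545434682759646547354689 >>> (2 * (4 * (p.a.toNat + 2 * p.b.toNat + 4 * p.e.val) + k))) % 4 : ℕ)
def sec (p : A4) : M2 := !![ent p 0, ent p 1; ent p 2, ent p 3]

theorem sec_mul : ∀ p q, sec p * sec q = sg (p.coc q) • sec (p.mul q) := by decide +kernel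
theorem sec_det : ∀ z p, (sg z • sec p) 0 0 * (sg z • sec p) 1 1 -
    (sg z • sec p) 0 1 * (sg z • sec p) 1 0 = 1 := by decide +kernel
theorem sec_surj : ∀ a b c d : K3, a * d - b * c = 1 → ∃ z p, !![a, b; c, d] = sg z • sec p := by
  decide +kernel
theorem sg_mul : ∀ a b, sg (bx a b) = sg a * sg b := by decide
theorem sg_sq : ∀ a, sg a * sg a = 1 := by decide

theorem blk_mul (a b c d : M2) : blk a b * blk c d = blk (a * c) (b * d) := by
  ext i k
  rcases i with i | i <;> rcases k with k | k <;> fin_cases i <;> fin_cases k <;>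
    simp [blk, Matrix.mul_apply, Fintype.sum_sum_type, Fin.sum_univ_two]

theorem sw_blk (a b : M2) : sw * blk a b = blk b a * sw := by
  ext i k
  rcases i with i | i <;> rcases k with k | k <;> fin_cases i <;> fin_cases k <;>
    simp [blk, sw, Matrix.mul_apply, Fintype.sum_sum_type, Fin.sum_univ_two]

theorem sw_sw : sw * sw = 1 := by decide +kernel

theorem blk_smul (c : K3) (a b : M2) : blk (c • a) (c • b) = c • blk a b := by
  ext i k
  rcases i with i | i <;> rcases k with k | k <;> fin_cases i <;> fin_cases k <;> simp [blk]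

theorem blk_mem {a b : M2} : blk a b ∈ symplecticGroup (Fin 2) K3 ↔
    a 0 0 * a 1 1 - a 0 1 * a 1 0 = 1 ∧ b 0 0 * b 1 1 - b 0 1 * b 1 0 = 1 := by
  rw [blk, SymplecticGroup.fromBlocks_mem_iff]
  simp only [← Matrix.ext_iff, Fin.forall_fin_two]
  simp [Matrix.mul_apply, mul_comm]

theorem sw_mem : sw ∈ symplecticGroup (Fin 2) K3 := SymplecticGroup.mem_iff.2 (by decide +kernel)
theorem g0_mem : g0 ∈ symplecticGroup (Fin 2) K3 := SymplecticGroup.mem_iff.2 (by decide +kernel)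

def Mat (x : H0) : M4 := blk (sg x.z • sec x.p) (sec x.q) * bif x.s then sw else 1

theorem Mat_mem (x : H0) : Mat x ∈ symplecticGroup (Fin 2) K3 :=
  mul_mem (blk_mem.2 ⟨sec_det _ _, by simpa [sg] using sec_det false x.q⟩) (by
    cases x.s
    exacts [one_mem _, sw_mem])

theorem Mat_mul (x y : H0) : ∃ c, Mat x * Mat y = sg c • Mat (x * y) := by
  obtain ⟨z, p, q, s⟩ := x
  obtain ⟨z', p', q', s'⟩ := y
  have k : ∀ (s s' : Bool), (bif bx s s' then sw else 1) =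
      (bif s then sw else 1) * bif s' then sw else 1 := by decide +kernel
  cases s
  · refine ⟨q.coc q', ?_⟩
    simp only [Mat, H0.mul_def, cond_false, k, mul_one, one_mul]
    rw [← mul_assoc, blk_mul, ← smul_mul_assoc, ← blk_smul, smul_mul_smul, sec_mul, sec_mul,
      smul_smul, smul_smul, sg_mul, sg_mul, sg_mul, mul_comm (sg (q.coc q')), mul_assoc _ _
        (sg (q.coc q')), sg_sq, mul_one]
  · refine ⟨bx z' (q.coc p'), ?_⟩
    simp only [Mat, H0.mul_def, cond_true, k]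
    rw [mul_assoc, ← mul_assoc sw, sw_blk, mul_assoc, ← mul_assoc, blk_mul, ← smul_mul_assoc,
      ← blk_smul, smul_mul_assoc (sg z), mul_smul_comm, sec_mul, sec_mul,
      smul_smul, smul_smul, smul_smul, ← sg_mul, ← sg_mul, ← sg_mul]
    congr 4
    generalize p.coc q' = a
    generalize q.coc p' = b
    revert z z' a b
    decide

theorem mk_eq {g g' : H9.Sp4 K3} : (g : PSp 2 K3) = g' ↔ ∃ c, g.1 = sg c • g'.1 := by
  rw [eq_comm, QuotientGroup.eq]
  have e : g.1 = g'.1 * (g'⁻¹ * g).1 := by rw [← Submonoid.coe_mul, mul_inv_cancel_left]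
  refine ⟨fun h => ?_, fun ⟨c, h⟩ => mem_center_iff.2 fun y => Subtype.ext ?_⟩
  · rcases H9.center_sp h with h | h <;> rw [h] at e
    exacts [⟨false, by simpa [sg] using e⟩, ⟨true, by simpa [sg] using e⟩]
  · have : (g'⁻¹ * g).1 = sg c • (1 : M4) := by
      rw [Submonoid.coe_mul, h, mul_smul_comm, ← Submonoid.coe_mul, inv_mul_cancel]; rfl
    rw [Submonoid.coe_mul, Submonoid.coe_mul _ _ y, this]; simp

def mS (x : H0) : H9.Sp4 K3 := ⟨Mat x, Mat_mem x⟩

/-- the embedding in `PSp₄(3)` -/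
def jP : H0 →* PSp 2 K3 := MonoidHom.mk' (fun x => (mS x : PSp 2 K3)) fun x y =>
  ((mk_eq (g := mS x * mS y) (g' := mS (x * y))).2 (Mat_mul x y)).symm

theorem cen_plus (g : H9.Sp4 K3) (h : g.1 * Mat t0 = Mat t0 * g.1) : ∃ x, jP x = g := by
  have T : Mat t0 = fromBlocks !![-1, 0; 0, 1] 0 0 !![-1, 0; 0, 1] := by decide +kernel
  have k : ∀ a : K3, (a = -a → a = 0) ∧ (-a = a → a = 0) := by decide
  have e : g.1 = blk !![g.1 (.inl 0) (.inl 0), g.1 (.inl 0) (.inr 0); g.1 (.inr 0) (.inl 0),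
      g.1 (.inr 0) (.inr 0)] !![g.1 (.inl 1) (.inl 1), g.1 (.inl 1) (.inr 1);
        g.1 (.inr 1) (.inl 1), g.1 (.inr 1) (.inr 1)] := by
    ext i l
    have := congrFun (congrFun h i) l
    rw [T] at this
    rcases i with i | i <;> rcases l with l | l <;> fin_cases i <;> fin_cases l <;>
      simp [Matrix.mul_apply, Fintype.sum_sum_type, Fin.sum_univ_two] at this <;>
      simp [blk] <;> first | exact (k _).1 this | exact (k _).2 this
  obtain ⟨h1, h2⟩ := blk_mem.1 (e ▸ g.2)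
  obtain ⟨z, p, e1⟩ := sec_surj _ _ _ _ h1
  obtain ⟨z', q, e2⟩ := sec_surj _ _ _ _ h2
  refine ⟨⟨bx z' z, p, q, false⟩, (mk_eq.2 ⟨z', ?_⟩).symm⟩
  rw [e]
  refine (congrArg₂ blk e1 e2).trans ?_
  simp only [mS, Mat, cond_false, mul_one]
  rw [← blk_smul, smul_smul, sg_mul, ← mul_assoc, sg_sq, one_mul]

theorem jH_P : JH jP := by
  refine ⟨(injective_iff_map_eq_one _).2 fun x hx => ?_, le_antisymm ?_ fun g hg => ?_⟩
  · obtain ⟨c, e⟩ := mk_eq.1 (hx : _ = ((1 : H9.Sp4 K3) : PSp 2 K3))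
    exact (by decide +kernel : ∀ x c, Mat x = sg c • (1 : M4) → x = 1) x c e
  · rintro _ ⟨x, rfl⟩
    rw [c1, ← map_mul, t0_comm, map_mul]
  · obtain ⟨g, rfl⟩ := QuotientGroup.mk_surjective g
    obtain ⟨c, e⟩ := mk_eq.1 (c1.1 hg : ((g * mS t0 : H9.Sp4 K3) : PSp 2 K3) =
      (mS t0 * g : H9.Sp4 K3))
    change g.1 * Mat t0 = sg c • (Mat t0 * g.1) at e
    cases c
    · exact cen_plus g (by simpa [sg] using e)
    · obtain ⟨x, hx⟩ := cen_plus (g * mS b0) (by
        change g.1 * Mat b0 * Mat t0 = Mat t0 * (g.1 * Mat b0)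
        rw [mul_assoc, (by decide +kernel : Mat b0 * Mat t0 = sg true • (Mat t0 * Mat b0)),
          mul_smul_comm, ← mul_assoc, e, smul_mul_assoc, smul_smul, sg_sq, one_smul, mul_assoc])
      exact ⟨x * b0⁻¹, by
        rw [map_mul, hx, map_inv]; exact mul_inv_cancel_right (g : PSp 2 K3) (jP b0)⟩

theorem tb_P : IsConj (jP t0) (jP b0) :=
  isConj_iff.2 ⟨((⟨g0, g0_mem⟩ : H9.Sp4 K3) : PSp 2 K3), mul_inv_eq_iff_eq_mul.2
    (mk_eq.2 ⟨true, (by decide +kernel : g0 * Mat t0 = sg true • (Mat b0 * g0))⟩ :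
      ((⟨g0, g0_mem⟩ * mS t0 : H9.Sp4 K3) : PSp 2 K3) = (mS b0 * ⟨g0, g0_mem⟩ : H9.Sp4 K3))⟩

/-- transport of symplectic groups -/
def spCongr {R S : Type*} [CommRing R] [CommRing S] (e : R ≃+* S) :
    symplecticGroup (Fin 2) R ≃* symplecticGroup (Fin 2) S where
  toFun g := ⟨g.1.map e, SymplecticGroup.map_mem g.2 e⟩
  invFun g := ⟨g.1.map e.symm, SymplecticGroup.map_mem g.2 e.symm⟩
  left_inv g := by ext i l; exact e.symm_apply_apply _
  right_inv g := by ext i l; exact e.apply_symm_apply _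
  map_mul' g h := Subtype.ext Matrix.map_mul

variable {G : Type*} [Group G] [Finite G]

theorem JH.map {P : Type*} [Group P] [Finite P] {j : H0 →* P} (h : JH j) (e : P ≃* G) :
    JH (e.toMonoidHom.comp j) :=
  ⟨e.injective.comp h.inj, by
    ext g
    obtain ⟨g, rfl⟩ := e.surjective g
    have : e g ∈ Cen1 (e (j t0)) ↔ g ∈ Cen1 (j t0) := by
      rw [c1, c1, ← map_mul, ← map_mul, e.injective.eq_iff]
    refine Iff.trans ?_ this.symm
    rw [← h.cen]
    exact ⟨fun ⟨x, hx⟩ => ⟨x, e.injective hx⟩, fun ⟨x, hx⟩ => ⟨x, congrArg e hx⟩⟩⟩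

theorem iso_of_cen (hG : ∀ H : Subgroup G, H.index ≠ 2) {P : Type*} [Group P] [Finite P]
    {j : H0 →* P} (h : JH j) (hc : IsConj (j t0) (j b0)) (U : Sylow 2 P) {u : P}
    (ou : orderOf u = 2) (uU : u ∈ (U : Subgroup P)) (uc : ∀ x ∈ (U : Subgroup P), x * u = u * x)
    {t : G} (ot : orderOf t = 2) (e : Cen1 t ≃* Cen1 u) : Nonempty (G ≃* P) := by
  obtain ⟨k, -, hk⟩ := (isSylowOf_top U).exists_conj h.syl
  have e1 := h.zc (hk.le (conj_mem_conjS uU)) (iconj ou k) (by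
    rw [← hk, ← conj_c1]; exact conjS_mono k fun x hx => c1.2 (uc x hx))
  have h1 := h.map (MulAut.conj k⁻¹)
  have e2 : (MulAut.conj k⁻¹).toMonoidHom.comp j t0 = u := by simp [← e1, mul_assoc]
  generalize (MulAut.conj k⁻¹).toMonoidHom.comp j = i at h1 e2
  subst e2
  let f : H0 →* G := (Cen1 t).subtype.comp (e.symm.toMonoidHom.comp
    (i.codRestrict _ fun x => h1.cen.le ⟨x, rfl⟩))
  have fi : Function.Injective f := fun a b c =>
    h1.inj (congrArg Subtype.val (e.symm.injective (Subtype.ext c)))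
  have fr : f.range = Cen1 t := le_antisymm (by rintro _ ⟨x, rfl⟩; exact (e.symm _).2) fun g hg => by
    obtain ⟨x, hx⟩ := h1.cen.ge (e ⟨g, hg⟩).2
    exact ⟨x, congrArg Subtype.val ((e.symm_apply_eq (y := ⟨g, hg⟩)).2 (Subtype.ext hx))⟩
  clear_value f
  clear e
  obtain ⟨x, rfl⟩ := fr.ge (c1.2 rfl)
  rcases zH x fun d => fi (by rw [map_mul, map_mul]; exact c1.1 (fr.le ⟨d, rfl⟩)) with rfl | rfl
  · exact absurd (map_one f) (ine ot)
  obtain ⟨_, _, r⟩ := exists_JR ((JH.mk fi fr).ex_w2 hG)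
  obtain ⟨_, _, r'⟩ := exists_JR (h.ex_w1 hc)
  exact r.iso r'

theorem exists_P {F : Type*} [Field F] [Fintype F] (hF : Fintype.card F = 3) :
    ∃ j : H0 →* PSp 2 F, JH j ∧ IsConj (j t0) (j b0) :=
  let e : PSp 2 K3 ≃* PSp 2 F := H2.quotCenterCongr (spCongr
    (FiniteField.ringEquivOfCardEq (by rw [ZMod.card, hF])))
  ⟨_, jH_P.map e, e.toMonoidHom.map_isConj tb_P⟩

end PS
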